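import Mathlib
import Cfsg.Agent.Lib.Char.Rep

/-!
Abstract construction of Weil representations: a group acting on a twisted group algebra basis of
a full matrix algebra gets a linear (not only projective) representation, when a parity operator of
trace one is available.
-/

set_option autoImplicit false

namespace H63.CrossChar

open Module

theorem isIrreducible_of_commutant {G V : Type*} [Group G] [Finite G] [AddCommGroup V]
    [Module ℂ V] [Nontrivial V] (ρ : Representation ℂ G V)
    (h : ∀ E : End ℂ V, (∀ g, E * ρ g = ρ g * E) → ∃ c : ℂ, E = c • 1) : ρ.IsIrreducible := by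
  rw [H6.isIrreducible_iff]
  refine ⟨inferInstance, fun U hU => ?_⟩
  have : NeZero (Nat.card G : ℂ) := ⟨Nat.cast_ne_zero.mpr Nat.card_pos.ne'⟩
  obtain ⟨U', hU'⟩ := exists_isCompl (⟨U, fun g v hv => hU g v hv⟩ : Subrepresentation ρ)
  have hc : IsCompl U U'.toSubmodule := H6.subrep_isCompl hU'
  obtain ⟨c, hc'⟩ := h (U.projection U'.toSubmodule hc) (fun g => by
    ext v
    obtain ⟨a, ha, b, hb, rfl⟩ := Submodule.mem_sup.mp
      (hc.sup_eq_top ▸ Submodule.mem_top : v ∈ U ⊔ U'.toSubmodule)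
    simp only [End.mul_apply, map_add]
    rw [Submodule.projection_apply_of_mem_left hc (hU g a ha),
      Submodule.projection_apply_of_mem_left hc ha,
      Submodule.projection_apply_of_mem_right hc (U'.apply_mem_toSubmodule g hb),
      Submodule.projection_apply_of_mem_right hc hb, map_zero])
  by_cases h0 : U = ⊥
  · exact Or.inl h0
  right
  obtain ⟨u, hu, hu0⟩ := (Submodule.ne_bot_iff U).mp h0
  have h1 := Submodule.projection_apply_of_mem_left hc hu
  rw [hc'] at h1
  have h2 : c = 1 := smul_left_injective ℂ hu0 (by simpa using h1)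
  rw [eq_top_iff]
  intro v _
  have := Submodule.projection_apply_mem hc v
  rwa [hc', h2, one_smul] at this

section

variable {W L G : Type*} [AddCommGroup W] [Fintype W] [AddCommGroup L] [Module ℂ L]
  [FiniteDimensional ℂ L] [Group G]

omit [AddCommGroup W] [Fintype W] in
theorem exists_smul_one_of_commute_basis (T : Basis W ℂ (End ℂ L)) (Y : End ℂ L)
    (h : ∀ w, Y * T w = T w * Y) : ∃ c : ℂ, Y = c • 1 := by
  have : Y ∈ Subalgebra.center ℂ (End ℂ L) := by
    rw [Subalgebra.mem_center_iff]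
    intro Z
    have : LinearMap.mulRight ℂ Y = LinearMap.mulLeft ℂ Y := T.ext fun w => (h w).symm
    exact LinearMap.congr_fun this Z
  obtain ⟨c, hc⟩ := (Algebra.IsCentral.mem_center_iff ℂ).mp this
  exact ⟨c, by rw [hc, Algebra.algebraMap_eq_smul_one]⟩

theorem exists_weil [Finite G] [DistribMulAction G W] (T : Basis W ℂ (End ℂ L)) (c : W → W → ℂ)
    (hT0 : T 0 = 1) (hT : ∀ w w', T w * T w' = c w w' • T (w + w'))
    (hc : ∀ (g : G) w w', c (g • w) (g • w') = c w w') (P : End ℂ L)
    (hP : ∀ w, P * T w = T (-w) * P) (hPP : P * P = 1) (htr : LinearMap.trace ℂ L P = 1)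
    (htrans : ∀ w w' : W, w ≠ 0 → w' ≠ 0 → ∃ g : G, g • w = w') (hL : finrank ℂ L ≠ 1) :
    2 * finrank ℂ (P.eigenspace (-1)) + 1 = finrank ℂ L ∧
    2 * finrank ℂ (P.eigenspace 1) = finrank ℂ L + 1 ∧
    (∃ ρ : Representation ℂ G (P.eigenspace (-1)), ρ.IsIrreducible) ∧
    (∃ ρ : Representation ℂ G (P.eigenspace 1), ρ.IsIrreducible) := by
  classical
  -- dimensions
  have hPPv : ∀ v, P (P v) = v := fun v => by rw [← End.mul_apply, hPP, End.one_apply]
  have hproj : ∀ ε : ℂ, ε * ε = 1 →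
      LinearMap.IsProj (P.eigenspace ε) ((2 : ℂ)⁻¹ • (1 + ε • P)) := fun ε hε =>
    ⟨fun v => by
      rw [End.mem_eigenspace_iff]
      simp only [LinearMap.smul_apply, LinearMap.add_apply, End.one_apply, map_smul, map_add, hPPv,
        smul_add, smul_smul]
      rw [add_comm]
      congr 2
      · ring
      · linear_combination (-(2 : ℂ)⁻¹) * hε,
    fun v hv => by
      rw [End.mem_eigenspace_iff] at hv
      simp only [LinearMap.smul_apply, LinearMap.add_apply, End.one_apply, hv, smul_smul, hε,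
        one_smul]
      rw [← two_smul ℂ v, smul_smul]; norm_num⟩
  have hdim : ∀ ε : ℂ, ε * ε = 1 → 2 * (finrank ℂ (P.eigenspace ε) : ℂ) = finrank ℂ L + ε :=
    fun ε hε => by
      rw [← (hproj ε hε).trace]
      simp only [map_smul, map_add, LinearMap.trace_one, htr, smul_eq_mul]
      ring
  have hdm : 2 * finrank ℂ (P.eigenspace (-1)) + 1 = finrank ℂ L := by
    have := hdim (-1) (by ring)
    have h2 : ((2 * finrank ℂ (P.eigenspace (-1)) + 1 : ℕ) : ℂ) = (finrank ℂ L : ℕ) := by
      push_cast; linear_combination this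
    exact_mod_cast h2
  have hdp : 2 * finrank ℂ (P.eigenspace 1) = finrank ℂ L + 1 := by
    have := hdim 1 (by ring)
    exact_mod_cast this
  refine ⟨hdm, hdp, ?_⟩
  -- implementing operators
  let H : Subgroup (G × (End ℂ L)ˣ) :=
    { carrier := {z | ∀ w, (z.2 : End ℂ L) * T w = T (z.1 • w) * z.2}
      one_mem' := fun w => by simp
      mul_mem' := fun {a b} ha hb w => by
        simp only [Prod.snd_mul, Units.val_mul, Prod.fst_mul, mul_smul]
        rw [mul_assoc, hb, ← mul_assoc, ha, mul_assoc]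
      inv_mem' := fun {a} ha w => by
        have := ha (a.1⁻¹ • w)
        rw [smul_inv_smul] at this
        simp only [Prod.snd_inv, Prod.fst_inv]
        rw [Units.inv_mul_eq_iff_eq_mul, ← mul_assoc, this, Units.mul_inv_cancel_right] }
  have hH : ∀ z : H, ∀ w, (z.1.2 : End ℂ L) * T w = T (z.1.1 • w) * z.1.2 := fun z => z.2
  have hex : ∀ g : G, ∃ M : (End ℂ L)ˣ, (g, M) ∈ H := fun g => by
    let l : End ℂ L ≃ₗ[ℂ] End ℂ L := T.equiv T (MulAction.toPerm g)
    have hl : ∀ w, l (T w) = T (g • w) := fun w => by simp [l]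
    let α : End ℂ L ≃ₐ[ℂ] End ℂ L := AlgEquiv.ofLinearEquiv l
      (by rw [← hT0, hl, smul_zero]) (by
        have := (LinearMap.map_mul_iff l.toLinearMap).mpr (LinearMap.ext_basis T T fun w w' => by
          simp [hT, hl, hc])
        exact this)
    obtain ⟨M, hM⟩ := α.eq_linearEquivConjAlgEquiv
    refine ⟨LinearMap.GeneralLinearGroup.ofLinearEquiv M, fun w => ?_⟩
    have h1 : α (T w) = T (g • w) := hl w
    rw [hM] at h1
    ext v
    simp [← h1]
  have huniq : ∀ (z : H) (N : End ℂ L), (∀ w, N * T w = T (z.1.1 • w) * N) →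
      ∃ a : ℂ, N = a • (z.1.2 : End ℂ L) := fun z N hN => by
    obtain ⟨a, ha⟩ := exists_smul_one_of_commute_basis T (((z.1.2⁻¹ : (End ℂ L)ˣ) : End ℂ L) * N)
      fun w => by
        rw [mul_assoc, hN, ← mul_assoc, ← mul_assoc]
        congr 1
        rw [Units.inv_mul_eq_iff_eq_mul, ← mul_assoc, hH, Units.mul_inv_cancel_right]
    exact ⟨a, by rw [Units.inv_mul_eq_iff_eq_mul] at ha; rw [ha]; simp⟩
  have hcomm : ∀ z : H, (z.1.2 : End ℂ L) * P = P * z.1.2 := fun z => by
    obtain ⟨a, ha⟩ := huniq z (P * z.1.2 * P) fun w => by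
      rw [mul_assoc, hP, ← mul_assoc, mul_assoc P, hH, ← mul_assoc, hP, smul_neg, neg_neg]
      simp only [mul_assoc]
    have h1 : P * z.1.2 = a • ((z.1.2 : End ℂ L) * P) := by
      rw [← smul_mul_assoc, ← ha, mul_assoc, hPP, mul_one]
    have h2 : P = a • ((z.1.2 : End ℂ L) * (P * ((z.1.2⁻¹ : (End ℂ L)ˣ) : End ℂ L))) := by
      rw [← mul_assoc, ← smul_mul_assoc, ← h1, Units.mul_inv_cancel_right]
    have h3 := congrArg (LinearMap.trace ℂ L) h2
    rw [map_smul, LinearMap.trace_mul_comm, Units.inv_mul_cancel_right, htr, smul_eq_mul,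
      mul_one] at h3
    rw [h1, ← h3, one_smul]
  have hmaps : ∀ (ε : ℂ) (z : H), ∀ v ∈ P.eigenspace ε, (z.1.2 : End ℂ L) v ∈ P.eigenspace ε :=
    fun ε z v hv => by
      rw [End.mem_eigenspace_iff] at hv ⊢
      rw [← End.mul_apply, ← hcomm, End.mul_apply, hv, map_smul]
  let r : ∀ ε : ℂ, H →* End ℂ (P.eigenspace ε) := fun ε =>
    { toFun := fun z => (z.1.2 : End ℂ L).restrict (hmaps ε z)
      map_one' := by ext v; simp
      map_mul' := fun a b => by ext v; simp }
  have hr : ∀ ε z v, ((r ε z v : P.eigenspace ε) : L) = (z.1.2 : End ℂ L) v := fun _ _ _ => rfl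
  let δ : ∀ ε : ℂ, H →* ℂ := fun ε => LinearMap.det.comp (r ε)
  have hδ0 : ∀ ε z, δ ε z ≠ 0 := fun ε z => ((Group.isUnit z).map (δ ε)).ne_zero
  have hδ : ∀ (ε : ℂ) (z z' : H) (a : ℂ), (z'.1.2 : End ℂ L) = a • (z.1.2 : End ℂ L) →
      δ ε z' = a ^ finrank ℂ (P.eigenspace ε) * δ ε z := fun ε z z' a ha => by
    have : r ε z' = a • r ε z := by ext v; simp [hr, ha]
    simp only [δ, MonoidHom.comp_apply, this, LinearMap.det_smul]
  have hd : finrank ℂ (P.eigenspace 1) = finrank ℂ (P.eigenspace (-1)) + 1 := by omega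
  let H0 : Subgroup H := (δ 1).eqLocus (δ (-1))
  let π : H0 →* G := (MonoidHom.fst _ _).comp (H.subtype.comp H0.subtype)
  have hπ : Function.Bijective π := by
    constructor
    · rw [injective_iff_map_eq_one]
      intro z hz
      have hz1 : z.1.1.1 = 1 := hz
      obtain ⟨a, ha⟩ := huniq 1 (z.1.1.2 : End ℂ L) fun w => by rw [hH, hz1]; rfl
      have h1 := hδ 1 1 z.1 a ha
      have h2 := hδ (-1) 1 z.1 a ha
      have h3 : δ 1 z.1 = δ (-1) z.1 := z.2
      have h4 := hδ0 (-1) z.1
      rw [map_one, mul_one] at h1 h2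
      rw [h2] at h4
      rw [h1, h2, hd, pow_succ] at h3
      have h5 : a = 1 := mul_left_cancel₀ h4 (by rw [h3, mul_one])
      rw [h5, one_smul] at ha
      exact Subtype.ext (Subtype.ext (Prod.ext hz1 (Units.ext ha)))
    · intro g
      obtain ⟨M, hM⟩ := hex g
      let a : ℂˣ := Units.mk0 (δ (-1) ⟨_, hM⟩ / δ 1 ⟨_, hM⟩) (div_ne_zero (hδ0 _ _) (hδ0 _ _))
      have hM' : (g, a • M) ∈ H := fun w => by
        have := hM w
        simp only [Units.val_smul] at this ⊢
        rw [smul_mul_assoc, this, mul_smul_comm]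
      refine ⟨⟨⟨_, hM'⟩, ?_⟩, rfl⟩
      change δ 1 _ = δ (-1) _
      rw [hδ 1 ⟨_, hM⟩ ⟨_, hM'⟩ a rfl, hδ (-1) ⟨_, hM⟩ ⟨_, hM'⟩ a rfl, hd, pow_succ, mul_assoc]
      congr 1
      exact div_mul_cancel₀ _ (hδ0 _ _)
  let s : G →* H := H0.subtype.comp (MulEquiv.ofBijective π hπ).symm.toMonoidHom
  have hs : ∀ g, (s g).1.1 = g := fun g => (MulEquiv.ofBijective π hπ).apply_symm_apply g
  -- the commutant
  have hcom : ∀ Y : End ℂ L, (∀ g, Y * (s g).1.2 = (s g).1.2 * Y) →
      ∃ a b : ℂ, Y = a • 1 + b • ∑ w, T w := fun Y hY => by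
    have h1 : ∀ (g : G) w, T.repr Y (g • w) = T.repr Y w := fun g w => by
      have h2 : ((s g).1.2 : End ℂ L) * Y = (∑ w, T.repr Y w • T (g • w)) * (s g).1.2 := by
        conv_lhs => rw [← T.sum_repr Y]
        simp only [Finset.mul_sum, Finset.sum_mul, mul_smul_comm, smul_mul_assoc, hH, hs]
      rw [← hY] at h2
      have h3 := (Units.mul_left_inj _).mp h2
      conv_lhs => rw [h3]
      simp [Finsupp.single_apply]
    by_cases hW : ∃ w0 : W, w0 ≠ 0
    · obtain ⟨w0, hw0⟩ := hW
      refine ⟨T.repr Y 0 - T.repr Y w0, T.repr Y w0, ?_⟩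
      apply T.repr.injective
      ext w
      rw [← hT0]
      by_cases hw : w = 0
      · simp [hw, Finsupp.single_apply]
      · obtain ⟨g, hg⟩ := htrans w0 w hw0 hw
        simp [Finsupp.single_apply, Ne.symm hw]
        rw [← hg, h1]
    · push Not at hW
      refine ⟨T.repr Y 0, 0, ?_⟩
      apply T.repr.injective
      ext w
      rw [← hT0, hW w]; simp
  obtain ⟨a0, b0, hP0⟩ := hcom P fun g => (hcomm _).symm
  have hb0 : b0 ≠ 0 := by
    rintro rfl
    rw [zero_smul, add_zero] at hP0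
    rw [hP0, smul_mul_assoc, one_mul, smul_smul] at hPP
    rw [hP0, map_smul, LinearMap.trace_one, smul_eq_mul] at htr
    have h1 := congrArg (LinearMap.trace ℂ L) hPP
    rw [map_smul, LinearMap.trace_one, smul_eq_mul, mul_assoc, htr, mul_one] at h1
    rw [h1] at htr
    have h2 : finrank ℂ L * finrank ℂ L = 1 := by exact_mod_cast htr
    exact hL (Nat.eq_one_of_mul_eq_one_left h2)
  have hfin : ∀ ε : ℂ, ε * ε = 1 → 0 < finrank ℂ (P.eigenspace ε) →
      ∃ ρ : Representation ℂ G (P.eigenspace ε), ρ.IsIrreducible := fun ε hε hpos => by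
    have : Nontrivial (P.eigenspace ε) := finrank_pos_iff.mp hpos
    refine ⟨(r ε).comp s, isIrreducible_of_commutant _ fun E hE => ?_⟩
    let p : L →ₗ[ℂ] P.eigenspace ε := (hproj ε hε).codRestrict
    have hp : ∀ v, (p v : L) = (2 : ℂ)⁻¹ • (v + ε • P v) := fun v => rfl
    have hpv : ∀ v : P.eigenspace ε, p v = v := fun v => (hproj ε hε).codRestrict_apply_cod v
    obtain ⟨a, b, hab⟩ := hcom ((P.eigenspace ε).subtype ∘ₗ E ∘ₗ p) fun g => by
      ext v
      have h1 : p (((s g).1.2 : End ℂ L) v) = r ε (s g) (p v) := by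
        apply Subtype.ext
        rw [hr, hp, hp, map_smul, map_add, map_smul, ← End.mul_apply P, ← hcomm, End.mul_apply]
      have h2 := LinearMap.congr_fun (hE g) (p v)
      simp only [End.mul_apply, LinearMap.comp_apply, Submodule.subtype_apply, h1]
      rw [← hr ε (s g)]
      exact congrArg Subtype.val h2
    refine ⟨a + b * b0⁻¹ * (ε - a0), ?_⟩
    ext v
    have h1 := LinearMap.congr_fun hab v
    have h2 := LinearMap.congr_fun hP0 v
    have h3 : P v = ε • (v : L) := End.mem_eigenspace_iff.mp v.2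
    simp only [LinearMap.comp_apply, hpv, Submodule.subtype_apply, LinearMap.add_apply,
      LinearMap.smul_apply, End.one_apply] at h1 h2
    rw [h3] at h2
    have h4 : (∑ w, T w) (v : L) = (b0⁻¹ * (ε - a0)) • (v : L) := by
      rw [mul_smul, sub_smul, h2, add_sub_cancel_left, smul_smul, inv_mul_cancel₀ hb0, one_smul]
    rw [h1, h4]
    simp [add_smul, smul_smul, mul_assoc]
  exact ⟨hfin (-1) (by ring) (by omega), hfin 1 (by ring) (by omega)⟩

end

end H63.CrossChar
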