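import Mathlib
import Cfsg.Agent.Lib.CrossChar.WeilAbs
import Cfsg.Agent.Lib.Sp.Basic

/-!
The Weil representations of `Sp_{2n}(q)`, `q` odd, of degrees `(q ^ n ± 1) / 2`.
-/

set_option autoImplicit false

namespace H63.CrossChar

open Module Matrix

variable {F : Type*} [Field F] [Fintype F] [DecidableEq F] {ι : Type*} [Fintype ι] [DecidableEq ι]

/-- Heisenberg operators in the Schrödinger model -/
noncomputable def heis (ψ : AddChar F ℂ) (w : ι ⊕ ι → F) : End ℂ ((ι → F) → ℂ) where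
  toFun f x := ψ ((w ∘ Sum.inr) ⬝ᵥ x + (2 : F)⁻¹ * ((w ∘ Sum.inl) ⬝ᵥ (w ∘ Sum.inr))) *
    f (x + w ∘ Sum.inl)
  map_add' f g := by ext x; simp [mul_add]
  map_smul' c f := by ext x; simp [mul_left_comm]

omit [Fintype F] [DecidableEq F] [DecidableEq ι] in
theorem heis_apply (ψ : AddChar F ℂ) (w : ι ⊕ ι → F) (f : (ι → F) → ℂ) (x : ι → F) :
    heis ψ w f x = ψ ((w ∘ Sum.inr) ⬝ᵥ x + (2 : F)⁻¹ * ((w ∘ Sum.inl) ⬝ᵥ (w ∘ Sum.inr))) *
      f (x + w ∘ Sum.inl) := rfl

omit [Fintype F] [DecidableEq F] [DecidableEq ι] in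
theorem heis_zero (ψ : AddChar F ℂ) : heis ψ (0 : ι ⊕ ι → F) = 1 := by
  apply LinearMap.ext; intro f; ext x
  simp [heis_apply]

omit [Fintype F] [DecidableEq F] in
theorem dot_J (u v : ι ⊕ ι → F) : u ⬝ᵥ (J ι F *ᵥ v) =
    (u ∘ Sum.inr) ⬝ᵥ (v ∘ Sum.inl) - (u ∘ Sum.inl) ⬝ᵥ (v ∘ Sum.inr) := by
  conv_lhs => rw [← Sum.elim_comp_inl_inr u]
  rw [J, fromBlocks_mulVec, sumElim_dotProduct_sumElim]
  simp [neg_mulVec, sub_eq_neg_add]

omit [Fintype F] [DecidableEq F] in
theorem heis_mul (h2 : (2 : F) ≠ 0) (ψ : AddChar F ℂ) (w w' : ι ⊕ ι → F) :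
    heis ψ w * heis ψ w' = ψ (-((2 : F)⁻¹ * (w ⬝ᵥ (J ι F *ᵥ w')))) • heis ψ (w + w') := by
  apply LinearMap.ext; intro f; ext x
  simp only [End.mul_apply, heis_apply, LinearMap.smul_apply, Pi.smul_apply, smul_eq_mul,
    ← mul_assoc, ← AddChar.map_add_eq_mul, Pi.add_comp, add_assoc]
  congr 2
  rw [dot_J]
  simp only [add_dotProduct, dotProduct_add, dotProduct_comm (w ∘ Sum.inr) (w' ∘ Sum.inl),
    dotProduct_comm (w' ∘ Sum.inr) (w ∘ Sum.inl)]
  field_simp
  ring

theorem trace_heis {ψ : AddChar F ℂ} (hψ : ψ ≠ 1) (w : ι ⊕ ι → F) :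
    LinearMap.trace ℂ _ (heis ψ w) = if w = 0 then (Fintype.card (ι → F) : ℂ) else 0 := by
  split_ifs with hw
  · rw [hw, heis_zero, LinearMap.trace_one, finrank_fintype_fun_eq_card]
  rw [LinearMap.trace_eq_matrix_trace ℂ (Pi.basisFun ℂ (ι → F)), Matrix.trace]
  simp only [diag_apply, LinearMap.toMatrix_apply, Pi.basisFun_apply, Pi.basisFun_repr, heis_apply]
  by_cases ha : w ∘ Sum.inl = 0
  · have hb : w ∘ Sum.inr ≠ 0 := fun hb => hw (by
      rw [← Sum.elim_comp_inl_inr w, ha, hb]; simp)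
    simp only [ha, add_zero, zero_dotProduct, mul_zero, Pi.single_eq_same, mul_one]
    let χ : AddChar (ι → F) ℂ :=
      ψ.compAddMonoidHom (dotProductEquiv F ι (w ∘ Sum.inr)).toAddMonoidHom
    have hχ : χ ≠ 1 := by
      intro h
      apply hψ
      ext t
      obtain ⟨i, hi⟩ := Function.ne_iff.mp hb
      have := DFunLike.congr_fun h (Pi.single i ((w (Sum.inr i))⁻¹ * t))
      have hi' : w (Sum.inr i) ≠ 0 := hi
      simpa [χ, ← mul_assoc, hi'] using this
    exact AddChar.sum_eq_zero_of_ne_one hχ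
  · refine Finset.sum_eq_zero fun x _ => ?_
    rw [Pi.single_eq_of_ne (by simpa using ha), mul_zero]

theorem linearIndependent_heis (h2 : (2 : F) ≠ 0) {ψ : AddChar F ℂ} (hψ : ψ ≠ 1) :
    LinearIndependent ℂ (heis ψ : (ι ⊕ ι → F) → _) := by
  have hN : (Fintype.card (ι → F) : ℂ) ≠ 0 := Nat.cast_ne_zero.mpr Fintype.card_ne_zero
  refine LinearIndependent.of_pairwise_dual_eq_zero_one _
    (fun w => (Fintype.card (ι → F) : ℂ)⁻¹ •
      (LinearMap.trace ℂ _ ∘ₗ LinearMap.mulLeft ℂ (heis ψ (-w)))) ?_ ?_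
  · intro w w' hne
    have : -w + w' ≠ 0 := fun h => hne (neg_add_eq_zero.mp h)
    simp [heis_mul h2, trace_heis hψ, this]
  · intro w
    have : (-w) ⬝ᵥ (J ι F *ᵥ w) = 0 := by
      rw [neg_dotProduct, dot_J, dotProduct_comm, sub_self, neg_zero]
    simp only [LinearMap.smul_apply, LinearMap.comp_apply, LinearMap.mulLeft_apply, heis_mul h2,
      this, neg_add_cancel, map_smul, trace_heis hψ]
    simp only [mul_zero, neg_zero, AddChar.map_zero_eq_one, if_true, smul_eq_mul, one_mul]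
    exact inv_mul_cancel₀ hN

theorem exists_weil_sp (h2 : (2 : F) ≠ 0) {n : ℕ} (hn : 1 ≤ n) :
    (∃ ρ : Representation ℂ (symplecticGroup (Fin n) F) (Fin ((Fintype.card F ^ n - 1) / 2) → ℂ),
      ρ.IsIrreducible) ∧
    (∃ ρ : Representation ℂ (symplecticGroup (Fin n) F) (Fin ((Fintype.card F ^ n + 1) / 2) → ℂ),
      ρ.IsIrreducible) := by
  let ψ : AddChar F ℂ := AddChar.FiniteField.primitiveChar_to_Complex F
  have hψ : ψ ≠ 1 := by
    have := AddChar.FiniteField.primitiveChar_to_Complex_isPrimitive F (a := 1) one_ne_zero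
    rwa [AddChar.mulShift_one] at this
  let T := basisOfLinearIndependentOfCardEqFinrank (linearIndependent_heis (ι := Fin n) h2 hψ)
    (by simp [finrank_linearMap, pow_add])
  have hT : ∀ w, T w = heis ψ w := fun w => by simp [T]
  let act : DistribMulAction (symplecticGroup (Fin n) F) (Fin n ⊕ Fin n → F) :=
    { smul := fun g w => g.1 *ᵥ w
      one_smul := fun w => one_mulVec w
      mul_smul := fun g h w => (mulVec_mulVec w g.1 h.1).symm
      smul_zero := fun g => mulVec_zero g.1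
      smul_add := fun g u v => mulVec_add g.1 u v }
  have : Finite (Matrix (Fin n ⊕ Fin n) (Fin n ⊕ Fin n) F) :=
    inferInstanceAs (Finite (_ → _ → F))
  let P : End ℂ ((Fin n → F) → ℂ) := LinearMap.funLeft ℂ ℂ (fun x => -x)
  have hP : ∀ f x, P f x = f (-x) := fun _ _ => rfl
  have hL : finrank ℂ ((Fin n → F) → ℂ) = Fintype.card F ^ n := by simp
  obtain ⟨h1, h1', ⟨ρ, hρ⟩, ⟨ρ', hρ'⟩⟩ := exists_weil (G := symplecticGroup (Fin n) F) T
    (fun w w' => ψ (-((2 : F)⁻¹ * (w ⬝ᵥ (J (Fin n) F *ᵥ w'))))) (by rw [hT, heis_zero])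
    (fun w w' => by rw [hT, hT, hT, heis_mul h2])
    (fun g w w' => by
      have := H11.Sp.form_apply g w w'
      rw [H11.Sp.form_def, H11.Sp.form_def] at this
      exact congrArg (fun t => ψ (-((2 : F)⁻¹ * t))) this) P
    (fun w => by
      apply LinearMap.ext; intro f; ext x
      have e1 : (-w) ∘ Sum.inl = -(w ∘ Sum.inl) := rfl
      have e2 : (-w) ∘ Sum.inr = -(w ∘ Sum.inr) := rfl
      simp [hT, hP, heis_apply, add_comm, e1, e2])
    (by apply LinearMap.ext; intro f; ext x; simp [hP])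
    (by
      rw [LinearMap.trace_eq_matrix_trace ℂ (Pi.basisFun ℂ (Fin n → F)), Matrix.trace]
      simp only [diag_apply, LinearMap.toMatrix_apply, Pi.basisFun_apply, Pi.basisFun_repr, hP]
      rw [Finset.sum_eq_single 0]
      · simp
      · intro x _ hx
        refine Pi.single_eq_of_ne (fun h => hx ?_) _
        have : (2 : F) • x = 0 := by rw [two_smul]; exact neg_eq_iff_add_eq_zero.mp h
        exact (smul_eq_zero.mp this).resolve_left h2
      · simp)
    (fun w w' hw hw' => H11.Sp.exists_mulVec_eq hw hw')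
    (by
      rw [hL]
      exact (Nat.one_lt_pow (by omega) Fintype.one_lt_card).ne')
  rw [hL] at h1 h1'
  constructor
  · have e : (Fintype.card F ^ n - 1) / 2 = finrank ℂ (P.eigenspace (-1)) := by omega
    rw [e]
    obtain ⟨σ, ⟨e'⟩⟩ := H6.exists_equiv_fin ρ
    exact ⟨σ, H6.isIrreducible_of_equiv e'⟩
  · have e : (Fintype.card F ^ n + 1) / 2 = finrank ℂ (P.eigenspace 1) := by omega
    rw [e]
    obtain ⟨σ, ⟨e'⟩⟩ := H6.exists_equiv_fin ρ'
    exact ⟨σ, H6.isIrreducible_of_equiv e'⟩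

end H63.CrossChar
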